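import Cfsg.Agent.H358.LD.NetS2_m3
import Cfsg.Agent.H358.LD.HeData_m3
import Cfsg.Agent.H358.LD.HeB
import Cfsg.Agent.H358.LD.RowHe
import Cfsg.Agent.H333.LD.RowLy
import Cfsg.Agent.H360.LD.RowJ3_m3
import Cfsg.Agent.H794.MathieuPP
import Cfsg.Agent.H681.DegBasic
import Cfsg.Agent.H270.Crit.Base
import Cfsg.Agent.S2060
import Cfsg.Agent.H417.DegMTwentyTwo
import Cfsg.Agent.SporadicA.MathieuRecog
import Cfsg.Agent.H489.OutSpor
import Cfsg.Agent.H417.DegMTwentyThree
import Cfsg.Agent.H55.OutGen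
import Cfsg.Agent.S2063
import Cfsg.Agent.H175.Eight.J1
import Cfsg.Agent.OddHalf.D4.Spor.J1Out
import Cfsg.Agent.H481.TBound
import Cfsg.Agent.H424.DegTools
import Cfsg.Agent.H894.J4Two
import Cfsg.Agent.H492.IMJ4
import Cfsg.Agent.S2068
import Cfsg.Agent.H713.Two.Ru
import Cfsg.Agent.H492.FactsTh
import Cfsg.Agent.S2083
import Cfsg.Agent.H29.TitsExt
import Cfsg.Agent.H360.EP.BlockB
import Cfsg.Agent.H677.DG.TriBM
import Cfsg.Agent.H149.Sp.Quot
import Cfsg.Agent.S2084
import Cfsg.Agent.H940.EngData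
import Cfsg.Agent.H343.LD.KB_m3
import Cfsg.Agent.H610.LD.RowJ2
import Cfsg.Agent.H456.LD.RowHN_m3
import Cfsg.Agent.Prune
set_option linter.all false

-- part: H358/LD/RowHe_mg
section

end

-- part: H954/LD/Asm
section
set_option linter.all false
open scoped Cfsg.Agent.FastGrp

-- part: H456/LD/RowM11
section
/-!
# S4910, the row `M₁₁` (helper456)
-/

set_option autoImplicit false

namespace Cfsg.Agent.H456.LD

open Cfsg Cfsg.Agent.H954.LD

universe u

theorem row_M11 {S : Type u} [Group S] [Finite S] [IsSimpleGroup S] (hna : ¬ IsMulCommutative S) (h : Spor.IsoM11 S) :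
    Cfsg.Agent.H954.LD.CopRow S := by
  obtain ⟨e⟩ := h
  have h1 : Nat.card (Out S) = 1 := (Cfsg.Agent.H548.Crit.card_out_congr e).trans Cfsg.Agent.S2060.result
  obtain ⟨α, hα⟩ := Cfsg.Agent.H681.DegBasic.charDegrees_comp e.toMonoidHom e.surjective
    Cfsg.Agent.H794.MathieuPP.mem_eleven_M11
  exact copRow_one_pp hna h1 (α := α) (by
    rw [hα]
    exact (by norm_num : Nat.Prime 11).isPrimePow)

end Cfsg.Agent.H456.LD
end

-- part: H569/LD/RowM22
section
/-!
# S4910: the row `M22` (helper569)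

The degrees `21` and `55` occur once (H417).
-/

set_option autoImplicit false

namespace Cfsg.Agent.H569.LD

open Cfsg Cfsg.Agent.H954.LD

universe u

/-- the list of degrees -/
def D : Fin 12 → ℕ := fun i => Cfsg.Agent.M22.DegreesEnd.LB.getD i 0

theorem isM22 {S : Type u} [Group S] (h : Cfsg.Spor.IsoM22 S) : Cfsg.IsM22 S := by
  obtain ⟨e⟩ := h
  have h1 := Cfsg.Agent.SporadicA.MathieuRecog.simple_M22
  exact ⟨e.isSimpleGroup, by rw [Nat.card_congr e.toEquiv, Cfsg.Agent.SporadicA.MathieuRecog.card_M22]⟩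

/-- **S4910, row `M22`** -/
theorem row_M22 {S : Type u} [Group S] [Finite S] [IsSimpleGroup S] (hna : ¬ IsMulCommutative S) (h : Spor.IsoM22 S) :
    Cfsg.Agent.H954.LD.CopRow S := by
  obtain ⟨f, hf⟩ := Cfsg.Agent.H417.DegMTwentyTwo.exists_enum (isM22 h)
  have hf' : ∀ i, charDegree (f i : S → ℂ) = D i := hf
  have key : ∀ i : Fin 12, (i = 1 ∨ i = 4) → ∀ ψ : IrrCharacter S, charDegree (ψ : S → ℂ) = charDegree (f i : S → ℂ) → ψ = f i := by
    intro i hi ψ hψ
    obtain ⟨j, rfl⟩ := f.surjective ψ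
    rw [hf', hf'] at hψ
    have hD : ∀ i : Fin 12, (i = 1 ∨ i = 4) → ∀ j, D j = D i → j = i := by decide
    rw [hD i hi j hψ]
  have h21 : charDegree (f 1 : S → ℂ) = 21 := hf' 1
  have h55 : charDegree (f 4 : S → ℂ) = 55 := hf' 4
  refine copRow_unique hna ?_ (α := f 1) (β := f 4) ?_ ?_ ?_ (key 1 (.inl rfl)) (key 4 (.inr rfl))
  · exact Cfsg.Agent.H489.card_out_sporadic (Or.inr (Or.inr (Or.inl h)))
  · rw [h21]; norm_num
  · rw [h55]; norm_num
  · rw [h21, h55]; norm_num

end Cfsg.Agent.H569.LD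
end

-- part: H790/LD/RowM23
section
/-!
# S4910, the row of the Mathieu group of degree 23: the degrees 1035 and 896 (helper790)
-/

set_option autoImplicit false

namespace Cfsg.Agent.H790.LD

open Cfsg

universe u

theorem row_M23 {S : Type u} [Group S] [Finite S] [IsSimpleGroup S] (hna : ¬ IsMulCommutative S) (h : Spor.IsoM23 S) :
    Cfsg.Agent.H954.LD.CopRow S := by
  obtain ⟨e⟩ := h
  have hG : Cfsg.IsM23 S :=
    ⟨inferInstance, by rw [Nat.card_congr e.toEquiv, Cfsg.Agent.SporadicA.MathieuRecog.card_M23]⟩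
  have h1 : Nat.card (Out S) = 1 := by rw [H55.OutGen.card_out_congr e, S2063.result]
  obtain ⟨hs, H, z, v, a, b, c, d, g, h, b₁, c₁, K⟩ := H417.DegMTwentyThree.exists_elev' hG
  have hd : charDegree (d : S → ℂ) = 1035 := K.dgd
  have hb : charDegree (b₁ : S → ℂ) = 896 := K.dgb₁
  exact H954.LD.copRow_one hna h1 (α := d) (β := b₁) (by rw [hd]; norm_num) (by rw [hb]; norm_num)
    (by rw [hd, hb]; norm_num)

end Cfsg.Agent.H790.LD
end

-- part: H55/LD/RowJ1
section
/-!
# S4910: the row of `J₁` (helper55): degrees 76 and 77, `Out = 1`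
-/

set_option autoImplicit false
set_option linter.unusedVariables false

namespace Cfsg.Agent.H55.LD

open Cfsg

universe u

/-- `Out(J₁) = 1` -/
theorem card_out_j1 {S : Type u} [Group S] (h : Spor.IsoJ1 S) : Nat.card (Out S) = 1 := by
  obtain ⟨e⟩ := h
  have h1 : Inn S = ⊤ := by
    rw [eq_top_iff]
    intro τ _
    obtain ⟨k, hk⟩ := OddHalf.D4.Spor.J1Out.inn (MulAut.congr e τ)
    refine ⟨e.symm k, ?_⟩
    ext x
    have h1 : MulAut.congr e τ (e x) = k * e x * k⁻¹ := by
      rw [hk]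
      rfl
    have h2 : MulAut.congr e τ (e x) = e (τ x) := by
      show e (τ (e.symm (e x))) = _
      rw [e.symm_apply_apply]
    rw [h2] at h1
    have h3 := congrArg e.symm h1
    rw [e.symm_apply_apply, map_mul, map_mul, map_inv, e.symm_apply_apply] at h3
    exact h3.symm
  show (Inn S).index = 1
  rw [h1, Subgroup.index_top]

/-- **the row of `J₁`** -/
theorem row_J1 {S : Type u} [Group S] [Finite S] [IsSimpleGroup S] (hna : ¬ IsMulCommutative S) (h : Spor.IsoJ1 S) :
    Cfsg.Agent.H954.LD.CopRow S := by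
  obtain ⟨α, hα⟩ := (H175.Eight.mem_j1 h 76).2 (by decide)
  obtain ⟨β, hβ⟩ := (H175.Eight.mem_j1 h 77).2 (by decide)
  refine Cfsg.Agent.H954.LD.copRow_one hna (card_out_j1 h) (α := α) (β := β) ?_ ?_ ?_
  · rw [hα]; norm_num
  · rw [hβ]; norm_num
  · rw [hα, hβ]; norm_num

end Cfsg.Agent.H55.LD
end

-- part: H781/LD/Base
section
/-!
# S4910, sporadic rows: rows from degrees of the model (helper781)

`copRow_of_model` : `|Out| = 1`, two coprime degrees `≠ 1` of the model; `copRow_of_model_pp` : a prime power degree.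
-/

set_option autoImplicit false

namespace Cfsg.Agent.H781.LD

open Cfsg Cfsg.Agent.H954.LD

universe u v

/-- two coprime degrees of the model, `Out = 1` -/
theorem copRow_of_model {T : Type v} [Group T] {S : Type u} [Group S] [Finite S] [IsSimpleGroup S]
    (hna : ¬ IsMulCommutative S) (e : S ≃* T) (h1 : Nat.card (Out T) = 1) {a b : ℕ} (ha : a ∈ charDegrees T)
    (hb : b ∈ charDegrees T) (ha1 : a ≠ 1) (hb1 : b ≠ 1) (hab : Nat.Coprime a b) : CopRow S := by
  rw [← H424.DegTools.charDegrees_congr e] at ha hb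
  obtain ⟨α, rfl⟩ := ha
  obtain ⟨β, rfl⟩ := hb
  exact copRow_one hna ((H934.OutB.card_out_congr e).trans h1) ha1 hb1 hab

end Cfsg.Agent.H781.LD
end

-- part: H781/LD/RowJ4
section
/-!
# S4910, the row `J₄` (helper781)

The degrees 889111 = 23 · 29 · 31 · 43 and 1981808640 = 2²¹ · 3³ · 5 · 7.
-/

set_option autoImplicit false

namespace Cfsg.Agent.H781.LD

open Cfsg Cfsg.Agent.H954.LD

universe u

/-- **The row `J₄`.** -/
theorem row_J4 {S : Type u} [Group S] [Finite S] [IsSimpleGroup S] (hna : ¬ IsMulCommutative S) (h : Spor.IsoJ4 S) :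
    CopRow S := by
  obtain ⟨e⟩ := h
  obtain ⟨χ, hχ⟩ := H492.IMJ4.exists_889111
  obtain ⟨ψ, hψ⟩ := H894.J4Two.exists_degree
  have h1 : (889111 : ℕ) ∈ charDegrees Spor.J4 := by
    refine ⟨χ, ?_⟩
    have h2 := Blocks.Knorr.charDegree_eq χ.2
    rw [hχ] at h2
    exact_mod_cast h2.symm
  exact copRow_of_model hna e Cfsg.Agent.S2068.result h1 ⟨ψ, hψ⟩ (by norm_num) (by norm_num) (by norm_num)

end Cfsg.Agent.H781.LD
end

-- part: H913/LD/RowRu
section
/-!
# The row of `Ru` for S4910 (helper913)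

`783 = 27 · 29` is a degree; a nontrivial character of degree prime to 29 and to 3 is coprime to it.
-/

set_option autoImplicit false

namespace Cfsg.Agent.H913.LD

open Cfsg Cfsg.Agent.Characters.Core

universe u

theorem row_Ru {S : Type u} [Group S] [Finite S] [IsSimpleGroup S] (hna : ¬ IsMulCommutative S)
    (h : Spor.IsoRu S) : Cfsg.Agent.H954.LD.CopRow S := by
  obtain ⟨e⟩ := h
  have hout : Nat.card (Out S) = 1 := by
    rw [H55.OutGen.card_out_congr e, S2077.result]
  have e' := e.trans Cfsg.Agent.RuLat.Main.equiv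
  obtain ⟨χ₁, χ₂, hχ, -⟩ := H713.Two.Ru.exists_783
  have hcard : Nat.card S = 145926144000 := by
    rw [Nat.card_congr e'.toEquiv]
    exact Cfsg.Agent.SporadicB.RuOrder.card_H
  let α : IrrCharacter S := ⟨(χ₁ : _ → ℂ) ∘ e'.toMonoidHom, isIrr_comp e'.toMonoidHom e'.surjective χ₁.2⟩
  have hα : charDegree (α : S → ℂ) = 783 := by
    rw [← hχ]
    exact charDegree_comp e' _
  have hf : (Nat.card S).factorization 29 = 1 := by
    rw [hcard, show (145926144000 : ℕ) = 29 ^ 1 * 5031936000 by norm_num]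
    exact H713.Two.Ru.factorization_of (by norm_num) (by norm_num)
  obtain ⟨β, hβ, h29, h3⟩ := exists_prime_to (G := S) (p := 29) (r := 3) (by norm_num) (by norm_num) hf
  refine Cfsg.Agent.H954.LD.copRow_one hna hout (α := α) (β := β) (by rw [hα]; norm_num)
    (charDegree_ne_one hna hβ) ?_
  rw [hα, show (783 : ℕ) = 3 ^ 3 * 29 by norm_num]
  refine Nat.Coprime.mul_left (Nat.Coprime.pow_left 3 ?_) ?_
  · exact (Nat.Prime.coprime_iff_not_dvd (by norm_num)).2 h3
  · exact (Nat.Prime.coprime_iff_not_dvd (by norm_num)).2 h29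

end Cfsg.Agent.H913.LD
end

-- part: H168/LD/RowTh
section
/-!
# S4910, the row `Th` (helper168): degrees `30875 = 5³·13·19` and `4881384 = 2³·3⁹·31`
-/

set_option autoImplicit false

namespace Cfsg.Agent.H168.LD

open Cfsg Cfsg.Agent.H954.LD Cfsg.Agent.Characters.Core

universe u

/-- transport of a degree along an isomorphism -/
theorem exists_deg {S : Type u} [Group S] {T : Type} [Group T] (e : S ≃* T) {d : ℕ}
    (h : ∃ χ : IrrCharacter T, (χ : T → ℂ) 1 = (d : ℕ)) : ∃ χ : IrrCharacter S, charDegree (χ : S → ℂ) = d := by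
  obtain ⟨χ, hχ⟩ := h
  refine ⟨⟨(χ : T → ℂ) ∘ e.toMonoidHom, isIrr_comp e.toMonoidHom e.surjective χ.2⟩, ?_⟩
  apply Cfsg.Agent.H670.PSing.charDegree_eq_of
  show (χ : T → ℂ) (e 1) = _
  rw [map_one, hχ]

theorem row_Th {S : Type u} [Group S] [Finite S] [IsSimpleGroup S] (hna : ¬ IsMulCommutative S) (h : Spor.IsoTh S) :
    CopRow S := by
  obtain ⟨e⟩ := h
  have h1 : Nat.card (Out S) = 1 := by rw [H55.OutGen.card_out_congr e]; exact S2083.result
  obtain ⟨α, hα⟩ := exists_deg e Cfsg.Agent.H492.FactsTh.exists_30875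
  obtain ⟨β, hβ⟩ := exists_deg e Cfsg.Agent.H492.FactsTh.exists_4881384
  exact copRow_one hna h1 (α := α) (β := β) (by rw [hα]; norm_num) (by rw [hβ]; norm_num)
    (by rw [hα, hβ]; norm_num)

end Cfsg.Agent.H168.LD
end

-- part: H451/LD/RowTits
section
/-!
# S4910: the row of the Tits group (helper451 for helper954)

The character of degree `27` extends to the automorphism group (`H29.TitsExt.extPP_tits`).
-/

set_option autoImplicit false

namespace Cfsg.Agent.H451.LD

open Cfsg Cfsg.Agent.H954.LD Cfsg.Agent.H671.H5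

universe u

theorem copRow_of_extPP {S : Type u} [Group S] [Finite S] (h : Cfsg.Agent.H29.MinExt.ExtPP S) : CopRow S := by
  obtain ⟨ψ, hψ, hirr, d, hd, h1⟩ := h
  right
  refine ⟨⟨_, hirr⟩, ?_, ?_⟩
  · have h2 : charDegree (fun s : S => ψ (MulAut.conj s)) = d :=
      Cfsg.Agent.Blocks.Basic.charDegree_of_eq (by rw [map_one, h1])
    change IsPrimePow (charDegree (fun s : S => ψ (MulAut.conj s)))
    rw [h2]
    exact hd
  · exact ⟨⟨ψ, Cfsg.Agent.CharactersDeep.MaxInduced.isIrr_of_comp (MulAut.conj : S →* MulAut S) hψ hirr⟩, fun s => rfl⟩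

/-- **the row of the Tits group** -/
theorem row_Tits {S : Type u} [Group S] [Finite S] [IsSimpleGroup S] (_hna : ¬ IsMulCommutative S)
    (h : Lie.IsoTits S) : CopRow S :=
  copRow_of_extPP (Cfsg.Agent.H29.TitsExt.extPP_tits h)

end Cfsg.Agent.H451.LD
end

-- part: H676/LD/RowB
section
/-!
# S4910, row B (helper676)

`row_B` : `CopRow S` for `Spor.IsoB S`: the degree `4371` and a degree prime to `4371` (`H360.EP.blockB`, `H954.LD`).
-/

set_option autoImplicit false
set_option linter.unusedSectionVars false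

open Cfsg

namespace Cfsg.Agent.H676.LD

open Cfsg.Agent.Characters.Core

universe u

variable {S : Type u} [Group S] [Finite S]

/-- **S4910, row B.** -/
theorem row_B [IsSimpleGroup S] (h : Spor.IsoB S) : Cfsg.Agent.H954.LD.CopRow S := by
  have ho : Nat.card (Cfsg.Out S) = 1 := h.elim fun e => (Cfsg.Agent.H149.Sp.card_out_congr e).trans S2084.result
  have hcard : Nat.card S = 4154781481226426191177580544000000 := Cfsg.Agent.H792.LD.card_b h
  obtain ⟨e⟩ := id h
  have hfin : Finite Spor.BabyMonster := Finite.of_equiv _ e.toEquiv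
  have hnt : Nontrivial Spor.BabyMonster := e.symm.toEquiv.nontrivial
  obtain ⟨ψ, hψ⟩ := Cfsg.Agent.H677.TriBM.exists_b
  have hψ' : IsIrrCharacter S ((ψ : Spor.BabyMonster → ℂ) ∘ e) := isIrr_comp e.toMonoidHom e.surjective ψ.2
  have hψd : charDegree ((ψ : Spor.BabyMonster → ℂ) ∘ e) = 4371 := by
    rw [← hψ]
    unfold charDegree
    rw [Function.comp_apply, map_one]
  have h13 : Fact (Nat.Prime 13) := ⟨by norm_num⟩
  obtain ⟨x, hx⟩ := exists_prime_orderOf_dvd_card' (G := S) 13 (by rw [hcard]; norm_num)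
  obtain ⟨M, hM⟩ := Cfsg.Agent.Blocks.ExistsModular.exists_isPModular Nat.prime_two
  obtain ⟨χ, hχ, h38, -⟩ := Cfsg.Agent.H360.EP.blockB h hx hM
  have hna : ¬ IsMulCommutative S := by
    intro hc
    have hp : (Nat.card S).Prime := by
      let _ : CommGroup S := { (inferInstance : Group S) with mul_comm := fun a b => hc.is_comm.comm a b }
      exact IsSimpleGroup.prime_card
    rw [hcard] at hp
    norm_num at hp
  exact Cfsg.Agent.H954.LD.copRow_one hna ho (α := χ) (β := ⟨_, hψ'⟩)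
    (by
      intro h1
      rw [h1] at h38
      norm_num at h38)
    (by
      show charDegree ((ψ : Spor.BabyMonster → ℂ) ∘ e) ≠ 1
      rw [hψd]
      norm_num)
    (by
      show Nat.Coprime (charDegree (χ : S → ℂ)) (charDegree ((ψ : Spor.BabyMonster → ℂ) ∘ e))
      rw [hψd]
      exact hχ)

end Cfsg.Agent.H676.LD
end

-- part: H954/LD/Asm
section
/-!
# S4910: all the rows but `Fi23` and `Fi24'` (helper954)
-/

set_option autoImplicit false

namespace Cfsg.Agent.H954.LD

open Cfsg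

/-- All the rows from those of `Fi23` and `Fi24'`. -/
theorem rows_of (B : Cfsg.Agent.H940.Eng.Base) (h23 : RowOf @Spor.IsoFi23) (h24 : RowOf @Spor.IsoFi24') : Rows where
  m11 := fun _ _ _ _ hna h => H456.LD.row_M11 hna h
  m12 := fun _ _ _ _ hna h => H396.LD.row_M12 hna h
  m22 := fun _ _ _ _ hna h => H569.LD.row_M22 hna h
  m23 := fun _ _ _ _ hna h => H790.LD.row_M23 hna h
  m24 := fun _ _ _ _ hna h => H587.LD.row_M24 hna h
  j1 := fun _ _ _ _ hna h => H55.LD.row_J1 hna h
  j2 := fun _ _ _ _ hna h => H610.LD.row_J2 hna h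
  j3 := fun _ _ _ _ hna h => H360.LD.row_J3 hna h
  j4 := fun _ _ _ _ hna h => H781.LD.row_J4 hna h
  co1 := fun _ _ _ _ hna h => H272.LD.row_Co1 hna h
  co2 := fun _ _ _ _ hna h => H587.LD.row_Co2 hna h
  co3 := fun _ _ _ _ hna h => H587.LD.row_Co3 hna h
  mcl := fun _ _ _ _ hna h => H901.LD.row_McL hna h
  hs := fun _ _ _ _ hna h => H896.LD.row_HS hna h
  suz := fun _ _ _ _ hna h => H212.LD.row_Suz hna h
  he := fun _ _ _ _ hna h => H358.LD.HeRow.row_He hna h
  ru := fun _ _ _ _ hna h => H913.LD.row_Ru hna h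
  on := fun _ _ _ _ hna h => H349.LD.row_ON hna h
  ly := fun _ _ _ _ hna h => H333.LD.row_Ly hna h
  fi22 := fun _ _ _ _ hna h => H618.LD.row_Fi22 hna h
  fi23 := h23
  fi24 := h24
  hn := fun _ _ _ _ hna h => H456.LD.row_HN hna h
  th := fun _ _ _ _ hna h => H168.LD.row_Th hna h
  b := fun _ _ _ _ _ h => H676.LD.row_B h
  m := fun _ _ _ _ _ h => H676.LD.row_M B h
  tits := fun _ _ _ _ hna h => H451.LD.row_Tits hna h

end Cfsg.Agent.H954.LD
end
end
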